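import Mathlib.AlgebraicGeometry.AffineScheme
import Mathlib.AlgebraicGeometry.Stalk
import Mathlib.AlgebraicGeometry.Morphisms.Immersion
import Mathlib.Order.Cover
import Groth.Prelude.Def_Found
import Groth.Prelude.Def_W4stktopologysheavesDim

/-!
Catenary partial orders and catenary topological spaces.
-/

set_option autoImplicit false

noncomputable section

namespace Groth.Agent.TopCat.Basic

open TopologicalSpace Topology

universe u v

variable {α : Type u} {β : Type v} [PartialOrder α] [PartialOrder β]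

/-- every step of the chain is a covering relation -/
def Saturated (s : LTSeries α) : Prop := ∀ i : Fin s.length, s (Fin.castSucc i) ⋖ s i.succ

/-- a catenary partial order -/
structure IsCat (α : Type u) [PartialOrder α] : Prop where
  bdd : ∀ a b : α, a ≤ b → ∃ n : ℕ, ∀ s : LTSeries α, s.head = a → s.last = b → s.length ≤ n
  eq : ∀ s t : LTSeries α, s.head = t.head → s.last = t.last → Saturated s → Saturated t → s.length = t.length

theorem isCatenary_iff (R : Type u) [CommRing R] : CAlg.IsCatenary R ↔ IsCat (PrimeSpectrum R) :=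
  ⟨fun h => ⟨h.1, h.2⟩, fun h => ⟨h.1, h.2⟩⟩

theorem saturated_map (e : β ↪o α) (hc : (Set.range e).OrdConnected) {s : LTSeries β} (hs : Saturated s) :
    Saturated (s.map e e.strictMono) :=
  fun i => (hs i).image e hc

theorem of_embedding (e : β ↪o α) (hc : (Set.range e).OrdConnected) (h : IsCat α) : IsCat β := by
  refine ⟨fun a b hab => ?_, fun s t h1 h2 hs ht => ?_⟩
  · obtain ⟨n, hn⟩ := h.bdd (e a) (e b) (e.monotone hab)
    exact ⟨n, fun s hs hs' => hn (s.map e e.strictMono) (by rw [LTSeries.head_map, hs]) (by rw [LTSeries.last_map, hs'])⟩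
  · exact h.eq (s.map e e.strictMono) (t.map e e.strictMono) (by rw [LTSeries.head_map, LTSeries.head_map, h1])
      (by rw [LTSeries.last_map, LTSeries.last_map, h2]) (saturated_map e hc hs) (saturated_map e hc ht)

theorem lift (e : β ↪o α) (hc : (Set.range e).OrdConnected) (a b : β) (s : LTSeries α) (hs : s.head = e a) (hs' : s.last = e b) :
    ∃ t : LTSeries β, t.length = s.length ∧ t.head = a ∧ t.last = b ∧ (Saturated s → Saturated t) := by
  have hmem : ∀ i, ∃ d, e d = s i := fun i => hc.out ⟨a, rfl⟩ ⟨b, rfl⟩ ⟨hs ▸ s.monotone (Fin.zero_le i), hs' ▸ s.monotone (Fin.le_last i)⟩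
  choose g hg using hmem
  have hlt : ∀ i : Fin s.length, g i.castSucc < g i.succ := fun i =>
    e.lt_iff_lt.mp (by rw [hg, hg]; exact s.step i)
  refine ⟨⟨s.length, g, hlt⟩, rfl, e.injective ((hg 0).trans hs), e.injective ((hg _).trans hs'), fun hsat i => ?_⟩
  exact CovBy.of_image e (show e (g (Fin.castSucc i)) ⋖ e (g i.succ) by rw [hg, hg]; exact hsat i)

theorem of_cover (h : ∀ a b : α, a ≤ b → ∃ (β : Type v) (_ : PartialOrder β) (e : β ↪o α),
    (Set.range e).OrdConnected ∧ IsCat β ∧ a ∈ Set.range e ∧ b ∈ Set.range e) : IsCat α := by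
  refine ⟨fun p q hpq => ?_, fun s t h1 h2 hs ht => ?_⟩
  · obtain ⟨C, _, e, hc, hC, ⟨a, rfl⟩, ⟨b, rfl⟩⟩ := h p q hpq
    obtain ⟨n, hn⟩ := hC.bdd a b (e.le_iff_le.mp hpq)
    refine ⟨n, fun s hs hs' => ?_⟩
    obtain ⟨t, hlen, ht, ht', -⟩ := lift e hc a b s hs hs'
    exact hlen ▸ hn t ht ht'
  · obtain ⟨C, _, e, hc, hC, ⟨a, ha⟩, ⟨b, hb⟩⟩ := h s.head s.last s.head_le_last
    obtain ⟨s', hls, hs1, hs2, hs3⟩ := lift e hc a b s ha.symm hb.symm
    obtain ⟨t', hlt, ht1, ht2, ht3⟩ := lift e hc a b t (h1.symm.trans ha.symm) (h2.symm.trans hb.symm)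
    rw [← hls, ← hlt]
    exact hC.eq s' t' (hs1.trans ht1.symm) (hs2.trans ht2.symm) (hs3 hs) (ht3 ht)

theorem of_orderIso (e : β ≃o α) (h : IsCat α) : IsCat β :=
  of_embedding e.toOrderEmbedding
    ((show Set.range e.toOrderEmbedding = Set.univ from e.surjective.range_eq) ▸ Set.ordConnected_univ) h

theorem dual (h : IsCat α) : IsCat αᵒᵈ := by
  let r : LTSeries αᵒᵈ → LTSeries α := fun s => ⟨s.length, fun i => OrderDual.ofDual (s i.rev), fun i => by
    show OrderDual.ofDual (s i.castSucc.rev) < OrderDual.ofDual (s i.succ.rev)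
    rw [Fin.rev_castSucc, Fin.rev_succ]
    exact s.step i.rev⟩
  have hh : ∀ s, (r s).head = OrderDual.ofDual s.last := fun s => congrArg (fun i => OrderDual.ofDual (s i)) (Fin.rev_zero _)
  have hl : ∀ s, (r s).last = OrderDual.ofDual s.head := fun s => congrArg (fun i => OrderDual.ofDual (s i)) (Fin.rev_last _)
  refine ⟨fun a b hab => ?_, fun s t h1 h2 hs ht => ?_⟩
  · obtain ⟨n, hn⟩ := h.bdd (OrderDual.ofDual b) (OrderDual.ofDual a) hab
    exact ⟨n, fun s hs hs' => hn (r s) (by rw [hh, hs']) (by rw [hl, hs])⟩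
  · have hsat : ∀ s, Saturated s → Saturated (r s) := fun s hs i => by
      show OrderDual.ofDual (s i.castSucc.rev) ⋖ OrderDual.ofDual (s i.succ.rev)
      rw [Fin.rev_castSucc, Fin.rev_succ]
      exact (hs i.rev).ofDual
    exact h.eq (r s) (r t) (by rw [hh, hh, h2]) (by rw [hl, hl, h1]) (hsat s hs) (hsat t ht)

theorem exists_chain (p q : α) (h : p ≤ q) : ∃ s : LTSeries α, s.head = p ∧ s.last = q := by
  rcases h.lt_or_eq with h | rfl
  · exact ⟨(RelSeries.singleton _ p).snoc q (show (RelSeries.singleton _ p).last < q from h), by simp, by simp⟩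
  · exact ⟨RelSeries.singleton _ p, rfl, rfl⟩

theorem saturated_of_max {s : LTSeries α} (hs : ∀ t : LTSeries α, t.head = s.head → t.last = s.last → t.length ≤ s.length) :
    Saturated s := fun i => by
  have hlt : s (Fin.castSucc i) < s i.succ := s.step i
  by_contra hno
  obtain ⟨c, hc₁, hc₂⟩ := exists_lt_lt_of_not_covBy hlt hno
  let t := s.insertNth i c hc₁ hc₂
  have h1 : t.head = s.head := by
    show (Fin.insertNth i.succ.castSucc c s.toFun : _ → α) 0 = s 0
    rw [Fin.insertNth_apply_below (h := by simp [Fin.lt_def])]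
    simp
  have h2 : t.last = s.last := by
    show (Fin.insertNth i.succ.castSucc c s.toFun : _ → α) (Fin.last _) = s (Fin.last _)
    rw [Fin.insertNth_apply_above (h := by simp [Fin.lt_def])]
    simp
    rfl
  have := hs t h1 h2
  simp [t, RelSeries.insertNth] at this

theorem exists_max {p q : α} (h : p ≤ q) {n : ℕ} (hn : ∀ s : LTSeries α, s.head = p → s.last = q → s.length ≤ n) :
    ∃ s : LTSeries α, s.head = p ∧ s.last = q ∧ Saturated s ∧ ∀ t : LTSeries α, t.head = p → t.last = q → t.length ≤ s.length := by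
  classical
  let P : ℕ → Prop := fun m => ∃ s : LTSeries α, s.head = p ∧ s.last = q ∧ s.length = m
  obtain ⟨s₀, h₀, h₁⟩ := exists_chain p q h
  obtain ⟨s, hs, hs', hlen⟩ : P (Nat.findGreatest P n) := Nat.findGreatest_spec (hn s₀ h₀ h₁) ⟨s₀, h₀, h₁, rfl⟩
  have hmax : ∀ t : LTSeries α, t.head = p → t.last = q → t.length ≤ s.length := fun t ht ht' => by
    rw [hlen]; exact Nat.le_findGreatest (hn t ht ht') ⟨t, ht, ht', rfl⟩
  exact ⟨s, hs, hs', saturated_of_max fun t ht ht' => hmax t (ht.trans hs) (ht'.trans hs'), hmax⟩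

theorem saturated_smash {s t : LTSeries α} (h : s.last = t.head) (hs : Saturated s) (ht : Saturated t) :
    Saturated (s.smash t h) := by
  show ∀ i : Fin (s.length + t.length), _
  refine Fin.addCases (fun i => ?_) fun i => ?_
  · have h1 := hs i
    rw [← RelSeries.smash_castAdd h i, ← RelSeries.smash_succ_castAdd h i] at h1
    exact h1
  · have h1 := ht i
    rw [← RelSeries.smash_natAdd h i, ← RelSeries.smash_succ_natAdd h i] at h1
    exact h1

section space

variable {X : Type u} [TopologicalSpace X]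

theorem le_codim {T T' : IrreducibleCloseds X} (s : LTSeries (IrreducibleCloseds X)) (h1 : s.head = T) (h2 : s.last ≤ T') :
    (s.length : ℕ∞) ≤ PtTop.codim T (T' : Set X) :=
  le_iSup₂_of_le (f := fun (s : LTSeries (IrreducibleCloseds X)) _ => (s.length : ℕ∞)) s ⟨h1, h2⟩ le_rfl

theorem codim_le {T T' : IrreducibleCloseds X} {c : ℕ∞}
    (h : ∀ s : LTSeries (IrreducibleCloseds X), s.head = T → s.last = T' → (s.length : ℕ∞) ≤ c) :
    PtTop.codim T (T' : Set X) ≤ c := by
  refine iSup₂_le fun s hs => ?_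
  rcases (show s.last ≤ T' from hs.2).lt_or_eq with hlt | heq
  · refine le_trans (Nat.cast_le.mpr ?_) (h (s.snoc T' hlt) (by rw [RelSeries.head_snoc]; exact hs.1) (RelSeries.last_snoc _ _ _))
    rw [RelSeries.snoc_length]; omega
  · exact h s hs.1 heq

theorem codim_eq_of_max {T T' : IrreducibleCloseds X} (s : LTSeries (IrreducibleCloseds X)) (h1 : s.head = T) (h2 : s.last = T')
    (hmax : ∀ t : LTSeries (IrreducibleCloseds X), t.head = T → t.last = T' → t.length ≤ s.length) :
    PtTop.codim T (T' : Set X) = s.length :=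
  le_antisymm (codim_le fun t ht ht' => Nat.cast_le.mpr (hmax t ht ht')) (le_codim s h1 h2.le)

theorem bdd_of_codim {T T' : IrreducibleCloseds X} (h : PtTop.codim T (T' : Set X) ≠ ⊤) :
    ∃ n : ℕ, ∀ s : LTSeries (IrreducibleCloseds X), s.head = T → s.last = T' → s.length ≤ n := by
  obtain ⟨n, hn⟩ := ENat.ne_top_iff_exists.mp h
  exact ⟨n, fun s hs hs' => by exact_mod_cast (le_codim s hs hs'.le).trans hn.ge⟩

theorem codim_ne_top (hcat : IsCat (IrreducibleCloseds X)) {T T' : IrreducibleCloseds X} (h : T ≤ T') :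
    PtTop.codim T (T' : Set X) ≠ ⊤ := by
  obtain ⟨n, hn⟩ := hcat.bdd T T' h
  exact ne_top_of_le_ne_top (ENat.coe_ne_top n) (codim_le fun s hs hs' => Nat.cast_le.mpr (hn s hs hs'))

theorem codim_eq (hcat : IsCat (IrreducibleCloseds X)) (s : LTSeries (IrreducibleCloseds X)) (hs : Saturated s) :
    PtTop.codim s.head (s.last : Set X) = s.length := by
  obtain ⟨n, hn⟩ := hcat.bdd s.head s.last s.head_le_last
  obtain ⟨t, ht1, ht2, ht3, ht4⟩ := exists_max s.head_le_last hn
  rw [codim_eq_of_max t ht1 ht2 ht4, hcat.eq t s ht1 ht2 ht3 hs]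

theorem isCatenarySpace_iff : PtTop.IsCatenarySpace X ↔ IsCat (IrreducibleCloseds X) := by
  constructor
  · intro h
    refine ⟨fun a b hab => bdd_of_codim (h a b hab).1, fun s t h1 h2 hs ht => ?_⟩
    have e1 := (h s.head s.last s.head_le_last).2 s rfl rfl hs
    have e2 := (h s.head s.last s.head_le_last).2 t h1.symm h2.symm ht
    exact_mod_cast e1.trans e2.symm
  · intro h T T' hTT
    refine ⟨codim_ne_top h hTT, fun s h1 h2 hs => ?_⟩
    rw [← h1, ← h2]
    exact (codim_eq h s hs).symm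

theorem codim_self (T : IrreducibleCloseds X) : PtTop.codim T (T : Set X) = 0 := by
  refine le_antisymm (codim_le fun s hs hs' => le_of_eq ?_) bot_le
  have h0 : s.head = s.last := hs.trans hs'.symm
  have h1 : (0 : Fin (s.length + 1)) = Fin.last _ := s.strictMono.injective h0
  have h2 : 0 = s.length := by simpa using congrArg Fin.val h1
  rw [← h2]; rfl

theorem codim_covBy {T T' : IrreducibleCloseds X} (h : T ⋖ T') : PtTop.codim T (T' : Set X) = 1 := by
  refine le_antisymm (codim_le fun s hs hs' => ?_) ?_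
  · by_contra hne
    have hlt : 1 < s.length := by
      by_contra h'
      exact hne (by exact_mod_cast (show s.length ≤ 1 by omega))
    let i : Fin (s.length + 1) := ⟨1, by omega⟩
    have h01 : s.head < s i := s.strictMono (Fin.lt_def.mpr Nat.one_pos)
    have h12 : s i < s.last := s.strictMono (Fin.lt_def.mpr hlt)
    exact h.2 (hs ▸ h01) (hs' ▸ h12)
  · exact le_trans (by simp) (le_codim ((RelSeries.singleton _ T).snoc T' h.1) (by simp) (by simp))

theorem isCatenarySpace_iff_add :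
    PtTop.IsCatenarySpace X ↔
      (∀ Y Y' : IrreducibleCloseds X, Y ≤ Y' → PtTop.codim Y (Y' : Set X) ≠ ⊤) ∧
      (∀ Y Y' Y'' : IrreducibleCloseds X, Y ≤ Y' → Y' ≤ Y'' →
        PtTop.codim Y (Y'' : Set X) = PtTop.codim Y (Y' : Set X) + PtTop.codim Y' (Y'' : Set X)) := by
  rw [isCatenarySpace_iff]
  constructor
  · intro h
    refine ⟨fun _ _ => codim_ne_top h, fun A B C hAB hBC => ?_⟩
    obtain ⟨n, hn⟩ := h.bdd A B hAB
    obtain ⟨m, hm⟩ := h.bdd B C hBC
    obtain ⟨a, ha1, ha2, ha3, -⟩ := exists_max hAB hn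
    obtain ⟨b, hb1, hb2, hb3, -⟩ := exists_max hBC hm
    have hab := codim_eq h _ (saturated_smash (ha2.trans hb1.symm) ha3 hb3)
    rw [RelSeries.head_smash, RelSeries.last_smash, ha1, hb2] at hab
    have ea := codim_eq h a ha3
    have eb := codim_eq h b hb3
    rw [ha1, ha2] at ea
    rw [hb1, hb2] at eb
    rw [hab, ea, eb, RelSeries.smash_length, Nat.cast_add]
  · intro h
    refine ⟨fun a b hab => bdd_of_codim (h.1 a b hab), fun s t h1 h2 hs ht => ?_⟩
    have key : ∀ s : LTSeries (IrreducibleCloseds X), Saturated s → PtTop.codim s.head (s.last : Set X) = s.length := by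
      intro s hs
      have : ∀ i : Fin (s.length + 1), PtTop.codim s.head (s i : Set X) = (i.val : ℕ∞) := fun i => by
        induction i using Fin.induction with
        | zero => simpa [RelSeries.head] using codim_self (s 0)
        | succ i ih =>
          rw [h.2 s.head _ _ (s.monotone (Fin.zero_le i.castSucc)) (hs i).1.le, ih, codim_covBy (hs i)]
          simp
      exact (this (Fin.last _)).trans (by simp)
    have e1 := key s hs
    rw [h1, h2, key t ht] at e1
    exact_mod_cast e1.symm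

/-- the map on irreducible closed subsets given by an inducing map -/
def mapEmb {Y : Type v} [TopologicalSpace Y] {f : Y → X} (hf : IsInducing f) :
    IrreducibleCloseds Y ↪o IrreducibleCloseds X :=
  OrderEmbedding.ofMapLEIff (IrreducibleCloseds.map f hf.continuous) fun a b => by
    refine ⟨fun hle => ?_, fun hle => IrreducibleCloseds.map_mono hf.continuous hle⟩
    show (a : Set Y) ⊆ b
    intro w hw
    have h1 : f w ∈ closure (f '' (b : Set Y)) := hle (show f w ∈ closure (f '' (a : Set Y)) from subset_closure ⟨w, hw, rfl⟩)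
    rw [← b.isClosed.closure_eq, hf.closure_eq_preimage_closure_image]
    exact h1

theorem coe_mapEmb {Y : Type v} [TopologicalSpace Y] {f : Y → X} (hf : IsInducing f) (a : IrreducibleCloseds Y) :
    (mapEmb hf a : Set X) = closure (f '' a) :=
  rfl

/-- the irreducible closed subsets of a locally closed subspace -/
theorem mem_range_of_lc {Y : Type v} [TopologicalSpace Y] {f : Y → X} (hf : IsEmbedding f) {U C : Set X} (hU : IsOpen U)
    (_hC : IsClosed C) (hrange : Set.range f = U ∩ C) (c : IrreducibleCloseds X) (hcU : ((c : Set X) ∩ U).Nonempty)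
    (hcC : (c : Set X) ⊆ C) : c ∈ Set.range (mapEmb hf.isInducing) := by
  have himg : f '' (f ⁻¹' c) = (c : Set X) ∩ U := by
    rw [Set.image_preimage_eq_inter_range, hrange]
    ext z
    exact ⟨fun h => ⟨h.1, h.2.1⟩, fun h => ⟨h.1, h.2, hcC h.1⟩⟩
  have hirr : IsIrreducible (f '' (f ⁻¹' c)) := by
    rw [himg]
    refine ⟨hcU, fun A B hA hB hA' hB' => ?_⟩
    obtain ⟨a, ⟨ha, haU⟩, haA⟩ := hA'
    obtain ⟨b, ⟨hb, hbU⟩, hbB⟩ := hB'
    obtain ⟨z, hz, hzA, hzB⟩ := c.isIrreducible.isPreirreducible (A ∩ U) (B ∩ U) (hA.inter hU) (hB.inter hU)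
      ⟨a, ha, haA, haU⟩ ⟨b, hb, hbB, hbU⟩
    exact ⟨z, ⟨hz, hzA.2⟩, hzA.1, hzB.1⟩
  have hpre : IsIrreducible (f ⁻¹' (c : Set X)) := by
    refine ⟨Set.image_nonempty.mp hirr.1, fun A B hA hB hA' hB' => ?_⟩
    obtain ⟨A', hA'o, rfl⟩ := hf.isInducing.isOpen_iff.mp hA
    obtain ⟨B', hB'o, rfl⟩ := hf.isInducing.isOpen_iff.mp hB
    obtain ⟨a, ha, ha'⟩ := hA'
    obtain ⟨b, hb, hb'⟩ := hB'
    obtain ⟨_, ⟨w, hw, rfl⟩, hwA, hwB⟩ := hirr.2 A' B' hA'o hB'o ⟨f a, ⟨a, ha, rfl⟩, ha'⟩ ⟨f b, ⟨b, hb, rfl⟩, hb'⟩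
    exact ⟨w, hw, hwA, hwB⟩
  refine ⟨⟨f ⁻¹' c, hpre, c.isClosed.preimage hf.continuous⟩, IrreducibleCloseds.ext ?_⟩
  rw [coe_mapEmb]
  show closure (f '' (f ⁻¹' c)) = c
  rw [himg]
  refine le_antisymm (closure_minimal Set.inter_subset_left c.isClosed) ?_
  exact subset_closure_inter_of_isPreirreducible_of_isOpen c.isIrreducible.isPreirreducible hU hcU

theorem ordConnected_of_lc {Y : Type v} [TopologicalSpace Y] {f : Y → X} (hf : IsEmbedding f)
    (hlc : IsLocallyClosed (Set.range f)) : (Set.range (mapEmb hf.isInducing)).OrdConnected := by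
  obtain ⟨U, C, hU, hC, hUC⟩ := hlc
  refine ⟨fun _ ⟨a, ha⟩ _ ⟨b, hb⟩ c hc => ?_⟩
  obtain ⟨w, hw⟩ := a.isIrreducible.nonempty
  have hwU : f w ∈ U ∩ C := hUC ▸ ⟨w, rfl⟩
  refine mem_range_of_lc hf hU hC hUC c ⟨f w, hc.1 ?_, hwU.1⟩ ?_
  · rw [← ha, ← SetLike.mem_coe, coe_mapEmb]; exact subset_closure ⟨w, hw, rfl⟩
  · refine le_trans hc.2 ?_
    rw [← hb, coe_mapEmb]
    exact closure_minimal (fun _ ⟨z, _, hz⟩ => (hUC ▸ ⟨z, hz⟩ : _ ∈ U ∩ C).2) hC

theorem isCatenarySpace_of_lc {Y : Type v} [TopologicalSpace Y] {f : Y → X} (hf : IsEmbedding f)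
    (hlc : IsLocallyClosed (Set.range f)) (h : PtTop.IsCatenarySpace X) : PtTop.IsCatenarySpace Y :=
  isCatenarySpace_iff.mpr (of_embedding (mapEmb hf.isInducing) (ordConnected_of_lc hf hlc) (isCatenarySpace_iff.mp h))

theorem isCatenarySpace_of_cover (h : ∀ x : X, ∃ (Y : Type v) (_ : TopologicalSpace Y) (f : Y → X),
    IsOpenEmbedding f ∧ x ∈ Set.range f ∧ PtTop.IsCatenarySpace Y) : PtTop.IsCatenarySpace X := by
  refine isCatenarySpace_iff.mpr (of_cover fun a b hab => ?_)
  obtain ⟨x, hx⟩ := a.isIrreducible.nonempty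
  obtain ⟨Y, _, f, hf, hxf, hY⟩ := h x
  have hr : Set.range f = Set.range f ∩ Set.univ := (Set.inter_univ _).symm
  exact ⟨_, inferInstance, mapEmb hf.isInducing, ordConnected_of_lc hf.isEmbedding hf.isOpen_range.isLocallyClosed,
    isCatenarySpace_iff.mp hY, mem_range_of_lc hf.isEmbedding hf.isOpen_range isClosed_univ hr a ⟨x, hx, hxf⟩ (Set.subset_univ _),
    mem_range_of_lc hf.isEmbedding hf.isOpen_range isClosed_univ hr b ⟨x, hab hx, hxf⟩ (Set.subset_univ _)⟩

/-- a subspace stable under generalization -/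
theorem mem_range_of_gen [QuasiSober X] {Y : Type v} [TopologicalSpace Y] {f : Y → X} (hf : IsInducing f)
    (hgen : ∀ z y, z ⤳ y → y ∈ Set.range f → z ∈ Set.range f) (c : IrreducibleCloseds X) {w : Y} (hw : f w ∈ c) :
    c ∈ Set.range (mapEmb hf) := by
  have hz := c.isIrreducible.isGenericPoint_genericPoint_closure
  rw [c.isClosed.closure_eq] at hz
  obtain ⟨w', hw'⟩ := hgen _ _ (hz.specializes hw) ⟨w, rfl⟩
  refine ⟨⟨closure {w'}, isIrreducible_singleton.closure, isClosed_closure⟩, IrreducibleCloseds.ext ?_⟩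
  rw [coe_mapEmb]
  show closure (f '' closure {w'}) = c
  rw [closure_image_closure hf.continuous, Set.image_singleton, hw', hz.def]

theorem ordConnected_of_gen [QuasiSober X] {Y : Type v} [TopologicalSpace Y] {f : Y → X} (hf : IsInducing f)
    (hgen : ∀ z y, z ⤳ y → y ∈ Set.range f → z ∈ Set.range f) : (Set.range (mapEmb hf)).OrdConnected := by
  refine ⟨fun _ ⟨a, ha⟩ _ _ c hc => ?_⟩
  obtain ⟨w, hw⟩ := a.isIrreducible.nonempty
  refine mem_range_of_gen hf hgen c (w := w) (hc.1 ?_)
  rw [← ha, ← SetLike.mem_coe, coe_mapEmb]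
  exact subset_closure ⟨w, hw, rfl⟩

theorem isCatenarySpace_spec_iff (R : Type u) [CommRing R] :
    PtTop.IsCatenarySpace (PrimeSpectrum R) ↔ CAlg.IsCatenary R := by
  rw [isCatenarySpace_iff, isCatenary_iff]
  exact ⟨fun h => of_orderIso (PrimeSpectrum.pointsEquivIrreducibleCloseds R) (dual h),
    fun h => of_orderIso (OrderIso.dualDual _) (dual (of_orderIso (PrimeSpectrum.pointsEquivIrreducibleCloseds R).symm h))⟩

end space

section scheme

open CategoryTheory AlgebraicGeometry

variable (X : Scheme.{u})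

theorem isCatenary_stalk (h : PtTop.IsCatenarySpace X) (x : X) : CAlg.IsCatenary (X.presheaf.stalk x) := by
  let f := X.fromSpecStalk x
  refine (isCatenarySpace_spec_iff _).mp (isCatenarySpace_iff.mpr ?_)
  refine of_embedding (mapEmb f.isEmbedding.isInducing) (ordConnected_of_gen f.isEmbedding.isInducing ?_) (isCatenarySpace_iff.mp h)
  intro z y hzy hy
  have hy' : y ⤳ x := by rw [Scheme.range_fromSpecStalk] at hy; exact hy
  rw [Scheme.range_fromSpecStalk]
  exact hzy.trans hy'

theorem isCatenarySpace_of_stalks (h : ∀ x : X, CAlg.IsCatenary (X.presheaf.stalk x)) : PtTop.IsCatenarySpace X := by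
  refine isCatenarySpace_iff.mpr (of_cover fun a b hab => ?_)
  obtain ⟨x, hx⟩ := a.isIrreducible.nonempty
  let f := X.fromSpecStalk x
  have hgen : ∀ z y, z ⤳ y → y ∈ Set.range f → z ∈ Set.range f := fun z y hzy hy => by
    have hy' : y ⤳ x := by rw [Scheme.range_fromSpecStalk] at hy; exact hy
    rw [Scheme.range_fromSpecStalk]
    exact hzy.trans hy'
  obtain ⟨w, hw⟩ : x ∈ Set.range f := by rw [Scheme.range_fromSpecStalk]; exact specializes_rfl
  exact ⟨_, inferInstance, mapEmb f.isEmbedding.isInducing, ordConnected_of_gen f.isEmbedding.isInducing hgen,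
    isCatenarySpace_iff.mp ((isCatenarySpace_spec_iff _).mpr (h x)),
    mem_range_of_gen f.isEmbedding.isInducing hgen a (hw ▸ hx), mem_range_of_gen f.isEmbedding.isInducing hgen b (hw ▸ hab hx)⟩

theorem isCatenary_affine (h : PtTop.IsCatenarySpace X) (U : X.affineOpens) : CAlg.IsCatenary Γ(X, U) :=
  (isCatenarySpace_spec_iff _).mp
    (isCatenarySpace_of_lc U.2.fromSpec.isEmbedding U.2.fromSpec.isOpenEmbedding.isOpen_range.isLocallyClosed h)

theorem isCatenarySpace_of_affine (h : ∀ s : X, ∃ U : X.affineOpens, s ∈ (U : X.Opens) ∧ CAlg.IsCatenary Γ(X, U)) :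
    PtTop.IsCatenarySpace X := by
  refine isCatenarySpace_of_cover fun x => ?_
  obtain ⟨U, hxU, hU⟩ := h x
  refine ⟨_, inferInstance, U.2.fromSpec, U.2.fromSpec.isOpenEmbedding, ?_, (isCatenarySpace_spec_iff _).mpr hU⟩
  rw [U.2.range_fromSpec]
  exact hxU

end scheme

end Groth.Agent.TopCat.Basic
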