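import Groth.Agent.TopCat.Basic
import Mathlib.Topology.NoetherianSpace
import Mathlib.Topology.Sober
import Mathlib.Topology.LocallyConstant.Basic
import Mathlib.AlgebraicGeometry.Noetherian

/-!
Dimension functions and catenary spaces.
-/

set_option autoImplicit false

noncomputable section

namespace Groth.Agent.TopCat.DimFun

open TopologicalSpace Topology
open Groth.Agent.TopCat.Basic

universe u

theorem isCat_of_grading {α : Type u} [PartialOrder α] (d : α → ℤ) (hlt : ∀ a b, a < b → d a < d b)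
    (hcov : ∀ a b, a ⋖ b → d b = d a + 1) : IsCat α := by
  have key : ∀ s : LTSeries α, ∀ i : Fin (s.length + 1), d s.head + i.val ≤ d (s i) := fun s i => by
    induction i using Fin.induction with
    | zero => simp [RelSeries.head]
    | succ i ih =>
      have := hlt _ _ (s.step i)
      simp only [Fin.val_succ, Fin.val_castSucc] at *
      push_cast
      omega
  have key' : ∀ s : LTSeries α, Saturated s → ∀ i : Fin (s.length + 1), d s.head + i.val = d (s i) := fun s hs i => by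
    induction i using Fin.induction with
    | zero => simp [RelSeries.head]
    | succ i ih =>
      have := hcov _ _ (hs i)
      simp only [Fin.val_succ, Fin.val_castSucc] at *
      push_cast
      omega
  refine ⟨fun a b _ => ⟨(d b - d a).toNat, fun s hs hs' => ?_⟩, fun s t h1 h2 hs ht => ?_⟩
  · have h3 : d s.head + (s.length : ℤ) ≤ d s.last := key s (Fin.last _)
    rw [hs, hs'] at h3
    omega
  · have e1 : d s.head + (s.length : ℤ) = d s.last := key' s hs (Fin.last _)
    have e2 : d t.head + (t.length : ℤ) = d t.last := key' t ht (Fin.last _)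
    rw [h1, h2] at e1
    omega

variable {X : Type u} [TopologicalSpace X]

/-- the irreducible closed subset attached to a point -/
def P (x : X) : IrreducibleCloseds X := ⟨closure {x}, isIrreducible_singleton.closure, isClosed_closure⟩

theorem P_le {x y : X} : P y ≤ P x ↔ x ⤳ y := specializes_iff_closure_subset.symm

theorem exists_P [QuasiSober X] (T : IrreducibleCloseds X) : ∃ x, P x = T :=
  ⟨T.isIrreducible.genericPoint, IrreducibleCloseds.ext
    ((T.isIrreducible.genericPoint_closure_eq).trans T.isClosed.closure_eq)⟩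

theorem P_inj [T0Space X] {x y : X} (h : P x = P y) : x = y :=
  ((P_le.mp h.ge).antisymm (P_le.mp h.le)).eq

theorem P_lt [T0Space X] {x y : X} (h : x ⤳ y) (hne : x ≠ y) : P y < P x :=
  lt_of_le_of_ne (P_le.mpr h) fun e => hne (P_inj e).symm

theorem P_covBy [QuasiSober X] [T0Space X] {x y : X} (h : PtTop.IsImmediateSpecialization x y) : P y ⋖ P x := by
  refine ⟨P_lt h.1 h.2.1, fun c h1 h2 => ?_⟩
  obtain ⟨z, rfl⟩ := exists_P c
  rcases h.2.2 z (P_le.mp h2.le) (P_le.mp h1.le) with rfl | rfl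
  exacts [lt_irrefl _ h2, lt_irrefl _ h1]

theorem isCatenarySpace_of_dimFun [QuasiSober X] [T0Space X] (δ : X → ℤ) (h : PtTop.IsDimensionFunction δ) :
    PtTop.IsCatenarySpace X := by
  choose g hg using exists_P (X := X)
  refine isCatenarySpace_iff.mpr (isCat_of_grading (fun T => δ (g T)) (fun a b hab => ?_) fun a b hab => ?_)
  · rw [← hg a, ← hg b] at hab
    exact h.1 _ _ (P_le.mp hab.le) fun e => hab.ne (by rw [e])
  · rw [← hg a, ← hg b] at hab
    refine h.2 _ _ ⟨P_le.mp hab.1.le, fun e => hab.1.ne (by rw [e]), fun z h1 h2 => ?_⟩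
    by_contra hz
    push Not at hz
    exact hab.2 (P_lt h2 hz.2) (P_lt h1 (Ne.symm hz.1))

/-- generic points of a closed subset of a Noetherian open -/
theorem exists_finite_gen [QuasiSober X] {U : Set X} (hU : IsOpen U) [NoetherianSpace ↥U] {C : Set X} (hC : IsClosed C) :
    ∃ G : Set X, G.Finite ∧ ∀ x ∈ U ∩ C, ∃ g ∈ G, g ⤳ x ∧ g ∈ C := by
  haveI : QuasiSober ↥U := hU.isOpenEmbedding_subtypeVal.quasiSober
  obtain ⟨𝒮, hfin, hcl, hirr, hun⟩ := NoetherianSpace.exists_finite_set_isClosed_irreducible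
    (α := ↥U) (s := Subtype.val ⁻¹' C) (hC.preimage continuous_subtype_val)
  haveI : Finite ↥𝒮 := hfin.to_subtype
  refine ⟨Set.range fun t : ↥𝒮 => (((hirr t.1 t.2).genericPoint : ↥U) : X), Set.finite_range _, fun x hx => ?_⟩
  obtain ⟨t, ht, hxt⟩ := hun.le (show (⟨x, hx.1⟩ : ↥U) ∈ Subtype.val ⁻¹' C from hx.2)
  have hgt := (hirr t ht).isGenericPoint_genericPoint_closure
  rw [(hcl t ht).closure_eq] at hgt
  exact ⟨_, ⟨⟨t, ht⟩, rfl⟩, (hgt.specializes hxt).map continuous_subtype_val,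
    hun.ge ⟨t, ht, hgt.mem⟩⟩

theorem exists_dimFun [QuasiSober X] [T0Space X] (hX : PtTop.IsCatenarySpace X) {U₀ : Set X} (hU₀ : IsOpen U₀)
    [NoetherianSpace ↥U₀] (s : X) (hs : s ∈ U₀) :
    ∃ U : Opens X, s ∈ U ∧ ∃ δ : U → ℤ, PtTop.IsDimensionFunction δ := by
  classical
  obtain ⟨G₁, hG₁, hG₁'⟩ := exists_finite_gen hU₀ (C := Set.univ) isClosed_univ
  choose G₂ hG₂ hG₂' using fun p : X × X => exists_finite_gen hU₀ (C := closure {p.1} ∩ closure {p.2})
    (isClosed_closure.inter isClosed_closure)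
  let G : Set X := G₁ ∪ ⋃ p ∈ G₁ ×ˢ G₁, G₂ p
  have hG : G.Finite := hG₁.union ((hG₁.prod hG₁).biUnion fun p _ => hG₂ p)
  let B : Set X := ⋃ g ∈ G ∩ {g | ¬ g ⤳ s}, closure {g}
  have hB : IsClosed B := (hG.inter_of_left _).isClosed_biUnion fun _ _ => isClosed_closure
  let U : Opens X := ⟨U₀ \ B, hU₀.sdiff hB⟩
  have hsU : s ∈ U := ⟨hs, fun h => by
    obtain ⟨g, hg, hgs⟩ := Set.mem_iUnion₂.mp h
    exact hg.2 (specializes_iff_mem_closure.mpr hgs)⟩
  have hgood : ∀ x : U, ∀ g ∈ G, g ⤳ x.1 → g ⤳ s := fun x g hg hgx => by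
    by_contra h
    exact x.2.2 (Set.mem_iUnion₂.mpr ⟨g, ⟨hg, h⟩, hgx.mem_closure⟩)
  -- the codimensions between points
  obtain ⟨hne, hadd⟩ := isCatenarySpace_iff_add.mp hX
  let c : X → X → ℕ := fun a b => (PtTop.codim (P b) (P a : Set X)).toNat
  have hc : ∀ {a b d : X}, a ⤳ b → b ⤳ d → c a d = c a b + c b d := fun {a b d} h1 h2 => by
    show (PtTop.codim (P d) (P a : Set X)).toNat = _
    rw [hadd (P d) (P b) (P a) (P_le.mpr h2) (P_le.mpr h1), ENat.toNat_add (hne _ _ (P_le.mpr h2)) (hne _ _ (P_le.mpr h1)),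
      add_comm]
  have hex : ∀ x : U, ∃ η, η ∈ G₁ ∧ η ⤳ x.1 := fun x => by
    obtain ⟨g, hg, hgx, -⟩ := hG₁' x.1 ⟨x.2.1, trivial⟩
    exact ⟨g, hg, hgx⟩
  choose η hη hηx using hex
  let δ : U → ℤ := fun x => (c (η x) s : ℤ) - c (η x) x.1
  have hδ : ∀ (x : U) (g : X), g ∈ G₁ → g ⤳ x.1 → δ x = (c g s : ℤ) - c g x.1 := fun x g hg hgx => by
    obtain ⟨w, hw, hwx, hwC⟩ := hG₂' (η x, g) x.1 ⟨x.2.1, (hηx x).mem_closure, hgx.mem_closure⟩
    have hwG : w ∈ G := Or.inr (Set.mem_iUnion₂.mpr ⟨(η x, g), Set.mk_mem_prod (hη x) hg, hw⟩)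
    have h1 : η x ⤳ w := specializes_iff_mem_closure.mpr hwC.1
    have h2 : g ⤳ w := specializes_iff_mem_closure.mpr hwC.2
    have hws := hgood x w hwG hwx
    show (c (η x) s : ℤ) - c (η x) x.1 = _
    rw [hc h1 hws, hc h1 hwx, hc h2 hws, hc h2 hwx]
    push_cast
    ring
  refine ⟨U, hsU, δ, fun x y hxy hne' => ?_, fun x y hxy => ?_⟩
  · have hxy' : x.1 ⤳ y.1 := hxy.map continuous_subtype_val
    rw [hδ y (η x) (hη x) ((hηx x).trans hxy')]
    show (c (η x) s : ℤ) - c (η x) y.1 < (c (η x) s : ℤ) - c (η x) x.1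
    have hpos : 1 ≤ c x.1 y.1 := by
      have h1 := le_codim ((RelSeries.singleton _ (P y.1)).snoc (P x.1) (P_lt hxy' fun e => hne' (Subtype.ext e)))
        (show _ = P y.1 by simp) (le_of_eq (RelSeries.last_snoc _ _ _))
      have h2 := ENat.toNat_le_toNat h1 (hne _ _ (P_le.mpr hxy'))
      simpa using h2
    rw [hc (hηx x) hxy']
    omega
  · have hxy' : x.1 ⤳ y.1 := hxy.1.map continuous_subtype_val
    have himm : PtTop.IsImmediateSpecialization x.1 y.1 := by
      refine ⟨hxy', fun e => hxy.2.1 (Subtype.ext e), fun z h1 h2 => ?_⟩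
      have hzU : z ∈ U := h2.mem_open U.isOpen y.2
      rcases hxy.2.2 ⟨z, hzU⟩ ((subtype_specializes_iff _ _).mpr h1) ((subtype_specializes_iff _ _).mpr h2) with h | h
      exacts [Or.inl (congrArg Subtype.val h), Or.inr (congrArg Subtype.val h)]
    rw [hδ y (η x) (hη x) ((hηx x).trans hxy')]
    show (c (η x) s : ℤ) - c (η x) x.1 = (c (η x) s : ℤ) - c (η x) y.1 + 1
    rw [hc (hηx x) hxy']
    have : c x.1 y.1 = 1 := by
      show (PtTop.codim _ _).toNat = 1
      rw [codim_covBy (P_covBy himm)]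
      rfl
    omega

theorem codim_eq_sub [QuasiSober X] [T0Space X] {δ : X → ℤ} (h : PtTop.IsDimensionFunction δ) {x y : X} (hxy : x ⤳ y) :
    PtTop.codim (P y) (P x : Set X) = ((δ x - δ y).toNat : ℕ∞) := by
  have hcat := isCatenarySpace_iff.mp (isCatenarySpace_of_dimFun δ h)
  obtain ⟨n, hn⟩ := hcat.bdd _ _ (P_le.mpr hxy)
  obtain ⟨s, hs1, hs2, hs3, -⟩ := exists_max (P_le.mpr hxy) hn
  choose g hg using exists_P (X := X)
  have hgP : ∀ z, g (P z) = z := fun z => P_inj (hg _)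
  have key : ∀ i : Fin (s.length + 1), δ (g s.head) + i.val = δ (g (s i)) := fun i => by
    induction i using Fin.induction with
    | zero => simp [RelSeries.head]
    | succ i ih =>
      have hab := hs3 i
      rw [← hg (s (Fin.castSucc i)), ← hg (s i.succ)] at hab
      have := h.2 (g (s i.succ)) (g (s (Fin.castSucc i))) ⟨P_le.mp hab.1.le, fun e => hab.1.ne (by rw [e]), fun z h1 h2 => by
        by_contra hz
        push Not at hz
        exact hab.2 (P_lt h2 hz.2) (P_lt h1 (Ne.symm hz.1))⟩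
      simp only [Fin.val_succ, Fin.val_castSucc] at *
      push_cast
      omega
  have e1 : δ (g s.head) + (s.length : ℤ) = δ (g s.last) := key (Fin.last _)
  have e2 := codim_eq hcat s hs3
  rw [hs1, hs2] at e1 e2
  rw [hgP, hgP] at e1
  rw [e2]
  congr 1
  omega

theorem isLocallyConstant_sub [QuasiSober X] [T0Space X] (hX : ∀ x : X, ∃ E ∈ nhds x, NoetherianSpace E)
    (δ δ' : X → ℤ) (hδ : PtTop.IsDimensionFunction δ) (hδ' : PtTop.IsDimensionFunction δ') :
    IsLocallyConstant fun x => δ x - δ' x := by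
  refine (IsLocallyConstant.iff_exists_open _).mpr fun x => ?_
  obtain ⟨E, hE, hN⟩ := hX x
  obtain ⟨V, hVE, hV, hxV⟩ := mem_nhds_iff.mp hE
  haveI : NoetherianSpace ↥V := (Topology.IsEmbedding.inclusion hVE).isInducing.noetherianSpace
  obtain ⟨G, hG, hG'⟩ := exists_finite_gen hV (C := Set.univ) isClosed_univ
  let B : Set X := ⋃ g ∈ G ∩ {g | ¬ g ⤳ x}, closure {g}
  have hB : IsClosed B := (hG.inter_of_left _).isClosed_biUnion fun _ _ => isClosed_closure
  have hxB : x ∉ B := fun h => by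
    obtain ⟨g, hg, hgx⟩ := Set.mem_iUnion₂.mp h
    exact hg.2 (specializes_iff_mem_closure.mpr hgx)
  have hconst : ∀ {a b : X}, a ⤳ b → δ a - δ' a = δ b - δ' b := fun {a b} hab => by
    have h1 : ((δ a - δ b).toNat : ℕ∞) = ((δ' a - δ' b).toNat : ℕ∞) :=
      (codim_eq_sub hδ hab).symm.trans (codim_eq_sub hδ' hab)
    have h1' : (δ a - δ b).toNat = (δ' a - δ' b).toNat := by exact_mod_cast h1
    rcases eq_or_ne a b with rfl | hne
    · rfl
    · have := hδ.1 a b hab hne
      have := hδ'.1 a b hab hne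
      omega
  refine ⟨V \ B, hV.sdiff hB, ⟨hxV, hxB⟩, fun y hy => ?_⟩
  obtain ⟨g, hg, hgy, -⟩ := hG' y ⟨hy.1, trivial⟩
  have hgx : g ⤳ x := by
    by_contra h
    exact hy.2 (Set.mem_iUnion₂.mpr ⟨g, ⟨hg, h⟩, hgy.mem_closure⟩)
  exact (hconst hgy).symm.trans (hconst hgx)

end Groth.Agent.TopCat.DimFun
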